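import Groth.Agent.QBal44.Basic
import Groth.Agent.Desc59.DDFppf
import Groth.Agent.Desc59.FpqcMor
import Groth.Agent.SpFP87.RepDescProps
import Groth.Agent.Sga84.TorsorAff

/-!
The bundle associated to a torsor and an affine scheme with action.
-/

set_option autoImplicit false
set_option linter.style.haveILetI false
set_option backward.isDefEq.respectTransparency false
set_option backward.isDefEq.respectTransparency.types false
universe u

open CategoryTheory CategoryTheory.Limits MonoidalCategory CartesianMonoidalCategory AlgebraicGeometry Desc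
open scoped MonObj GrpObj

noncomputable section

namespace Groth.Agent.Special44

open QBal44

variable {S : Scheme.{u}} {G X Y F : Over S} [GrpObj G] {a : AlgGrp.Action G X} {φ : X ⟶ Y}

/-- The translation between two points with the same image. -/
def tr (hc : IsPullback a.act (snd G X) φ φ) {W : Over S} (x x' : W ⟶ X) (h : x ≫ φ = x' ≫ φ) : W ⟶ G :=
  (existsUnique_translate hc x x' h).choose

theorem app_tr (hc : IsPullback a.act (snd G X) φ φ) {W : Over S} (x x' : W ⟶ X) (h : x ≫ φ = x' ≫ φ) :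
    app a (tr hc x x' h) x = x' :=
  (existsUnique_translate hc x x' h).choose_spec.1

/-- The gluing on points, from all points to all points. -/
def glue (hc : IsPullback a.act (snd G X) φ φ) (b : AlgGrp.Action G F) {W : Over S} (x x' : W ⟶ X)
    (h : x ≫ φ = x' ≫ φ) (p : W ⟶ X ⊗ F) : W ⟶ X ⊗ F :=
  lift x' (app b (tr hc x x' h) (p ≫ snd X F))

theorem comp_glue (hc : IsPullback a.act (snd G X) φ φ) (b : AlgGrp.Action G F) {W W' : Over S} (g : W' ⟶ W)
    (x x' : W ⟶ X) (h : x ≫ φ = x' ≫ φ) (p : W ⟶ X ⊗ F) :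
    g ≫ glue hc b x x' h p =
      glue hc b (g ≫ x) (g ≫ x') (by rw [Category.assoc, Category.assoc, h]) (g ≫ p) := by
  rw [glue, glue, comp_lift, comp_app]
  congr 2
  refine app_inj hc (g ≫ x) ?_
  rw [← comp_app, app_tr, app_tr]

theorem glue_self (hc : IsPullback a.act (snd G X) φ φ) (b : AlgGrp.Action G F) {W : Over S} (x : W ⟶ X)
    (p : W ⟶ X ⊗ F) (hp : p ≫ fst X F = x) : glue hc b x x rfl p = p := by
  have h : tr hc x x rfl = 1 := app_inj hc x (by rw [app_tr, app, a.lift_one_act])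
  rw [glue, h, app, b.lift_one_act, ← hp, ← comp_lift, lift_fst_snd, Category.comp_id]

theorem glue_glue (hc : IsPullback a.act (snd G X) φ φ) (b : AlgGrp.Action G F) {W : Over S} (x₀ x₁ x₂ : W ⟶ X)
    (h₀₁ : x₀ ≫ φ = x₁ ≫ φ) (h₁₂ : x₁ ≫ φ = x₂ ≫ φ) (p : W ⟶ X ⊗ F) :
    glue hc b x₁ x₂ h₁₂ (glue hc b x₀ x₁ h₀₁ p) = glue hc b x₀ x₂ (h₀₁.trans h₁₂) p := by
  have h : tr hc x₁ x₂ h₁₂ * tr hc x₀ x₁ h₀₁ = tr hc x₀ x₂ (h₀₁.trans h₁₂) := app_inj hc x₀ (by
    rw [app, a.lift_mul_act]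
    change app a _ (app a _ x₀) = _
    rw [app_tr, app_tr, app_tr])
  rw [glue, glue, glue, lift_snd, ← h]
  congr 1
  exact (b.lift_mul_act _ _ _).symm

/-- A point of the scheme below, as a point over the base. -/
abbrev pt {Z : Over S} {T : Scheme.{u}} (t : T ⟶ S) (x : T ⟶ Z.left) (h : x ≫ Z.hom = t) : Over.mk t ⟶ Z :=
  Over.homMk x h

theorem over_eq_of_comp {T : Scheme.{u}} {x₀ x₁ : T ⟶ X.left} (h : x₀ ≫ φ.left = x₁ ≫ φ.left) :
    x₁ ≫ X.hom = x₀ ≫ X.hom := by
  rw [← Over.w φ, ← Category.assoc, ← h, Category.assoc]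

theorem lifts_over {T : Scheme.{u}} {x : T ⟶ X.left}
    (v : Lifts (Over.mk (fst X F).left : Over X.left) x) : v.1 ≫ (X ⊗ F).hom = x ≫ X.hom := by
  have h : v.1 ≫ (fst X F).left = x := v.2
  exact ((congrArg (· ≫ X.hom) h).symm.trans ((Category.assoc _ _ _).trans (congrArg (v.1 ≫ ·) (Over.w (fst X F))))).symm

/-- The gluing on lifts. -/
def glueLifts (hc : IsPullback a.act (snd G X) φ φ) (b : AlgGrp.Action G F) {T : Scheme.{u}}
    (x₀ x₁ : T ⟶ X.left) (h : x₀ ≫ φ.left = x₁ ≫ φ.left)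
    (v : Lifts (Over.mk (fst X F).left : Over X.left) x₀) : Lifts (Over.mk (fst X F).left : Over X.left) x₁ :=
  ⟨(glue hc b (pt (x₀ ≫ X.hom) x₀ rfl) (pt (x₀ ≫ X.hom) x₁ (over_eq_of_comp h)) (Over.OverMorphism.ext h)
      (pt (x₀ ≫ X.hom) v.1 (lifts_over v))).left,
    congrArg CommaMorphism.left (lift_fst (pt (x₀ ≫ X.hom) x₁ (over_eq_of_comp h)) _)⟩

theorem glueLifts_val (hc : IsPullback a.act (snd G X) φ φ) (b : AlgGrp.Action G F) {T : Scheme.{u}} (t : T ⟶ S)
    (x₀ x₁ : T ⟶ X.left) (h : x₀ ≫ φ.left = x₁ ≫ φ.left) (h₀ : x₀ ≫ X.hom = t)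
    (v : Lifts (Over.mk (fst X F).left : Over X.left) x₀) :
    (glueLifts hc b x₀ x₁ h v).1 = (glue hc b (pt t x₀ h₀) (pt t x₁ ((over_eq_of_comp h).trans h₀))
      (Over.OverMorphism.ext h) (pt t v.1 ((lifts_over v).trans h₀))).left := by
  subst h₀
  rfl

theorem glueLifts_comp (hc : IsPullback a.act (snd G X) φ φ) (b : AlgGrp.Action G F) {T : Scheme.{u}}
    (x₀ x₁ x₂ : T ⟶ X.left) (h₀₁ : x₀ ≫ φ.left = x₁ ≫ φ.left) (h₁₂ : x₁ ≫ φ.left = x₂ ≫ φ.left)
    (v : Lifts (Over.mk (fst X F).left : Over X.left) x₀) :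
    glueLifts hc b x₁ x₂ h₁₂ (glueLifts hc b x₀ x₁ h₀₁ v) = glueLifts hc b x₀ x₂ (h₀₁.trans h₁₂) v := by
  apply Subtype.ext
  rw [glueLifts_val hc b (x₀ ≫ X.hom) x₁ x₂ h₁₂ (over_eq_of_comp h₀₁)]
  exact congrArg CommaMorphism.left (glue_glue hc b _ _ _ _ _ _)

theorem glueLifts_self (hc : IsPullback a.act (snd G X) φ φ) (b : AlgGrp.Action G F) {T : Scheme.{u}}
    (x : T ⟶ X.left) (v : Lifts (Over.mk (fst X F).left : Over X.left) x) : glueLifts hc b x x rfl v = v := by
  apply Subtype.ext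
  exact congrArg CommaMorphism.left (glue_self hc b (pt (x ≫ X.hom) x rfl) (pt (x ≫ X.hom) v.1 (lifts_over v))
    (Over.OverMorphism.ext v.2))

/-- The descent datum of the associated bundle. -/
def assocDD (hc : IsPullback a.act (snd G X) φ φ) (b : AlgGrp.Action G F) : SchDD φ.left where
  obj := Over.mk (fst X F).left
  φ T x₀ x₁ h :=
    { toFun := glueLifts hc b x₀ x₁ h
      invFun := glueLifts hc b x₁ x₀ h.symm
      left_inv := fun v => by rw [glueLifts_comp, glueLifts_self]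
      right_inv := fun v => by rw [glueLifts_comp, glueLifts_self] }
  φ_natural T T' g x₀ x₁ h h' v v' hv := by
    let w : Over.mk ((g ≫ x₀) ≫ X.hom) ⟶ Over.mk (x₀ ≫ X.hom) := Over.homMk g (Category.assoc _ _ _).symm
    have e := congrArg CommaMorphism.left (comp_glue hc b w (pt (x₀ ≫ X.hom) x₀ rfl)
      (pt (x₀ ≫ X.hom) x₁ (over_eq_of_comp h)) (Over.OverMorphism.ext h) (pt (x₀ ≫ X.hom) v.1 (lifts_over v)))
    refine Eq.trans ?_ e.symm
    show (glueLifts hc b (g ≫ x₀) (g ≫ x₁) h' v').1 = _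
    rw [glueLifts_val hc b _ _ _ h' rfl]
    congr 2
    exact Over.OverMorphism.ext hv
  φ_self T x v := glueLifts_self hc b x v
  φ_comp T x₀ x₁ x₂ h₀₁ h₁₂ v := glueLifts_comp hc b x₀ x₁ x₂ h₀₁ h₁₂ v

theorem exists_assoc (hc : IsPullback a.act (snd G X) φ φ)
    (hloc : NonAbH1.IsLocallyTrivialFor Scheme.fpqcPrecoverage (Over.mk φ.left : Over Y.left))
    [Flat φ.left] [IsAffineHom φ.left] [IsAffineHom F.hom] (b : AlgGrp.Action G F) :
    ∃ (Q : Over S) (q : X ⊗ F ⟶ Q) (r : Q ⟶ Y), q ≫ r = fst X F ≫ φ ∧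
      IsPullback (a.prod b).act (snd G (X ⊗ F)) q q ∧
      NonAbH1.IsLocallyTrivialFor Scheme.fpqcPrecoverage (Over.mk q.left : Over Q.left) := by
  haveI : Surjective φ.left := Sga84.surjective_of_isLocallyTrivialFor (X := Over.mk φ.left) hloc
  haveI : Desc59.IsFpqcMor φ.left := ⟨φ.left.singleton_mem_fpqcPrecoverage⟩
  haveI : IsAffineHom (fst X F).left :=
    MorphismProperty.pullback_fst (P := @IsAffineHom) _ _ (inferInstance : IsAffineHom F.hom)
  have hD : MoreMor.IsIndQuasiAffineHom (assocDD hc b).obj.hom :=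
    SpFP87.isIndQuasiAffineHom_of_isAffineHom (fst X F).left
  obtain ⟨U, ⟨iD⟩⟩ := Desc59.effective_of_isIndQuasiAffineHom' φ.left (assocDD hc b) hD
  let Q : Over S := Over.mk (U.hom ≫ Y.hom)
  let r : Q ⟶ Y := Over.homMk U.hom rfl
  have hfst : iD.inv.hom.left ≫ pullback.fst φ.left U.hom = (fst X F).left := Over.w iD.inv.hom
  let q : X ⊗ F ⟶ Q := Over.homMk (iD.inv.hom.left ≫ pullback.snd φ.left U.hom) (by
    show (iD.inv.hom.left ≫ pullback.snd φ.left U.hom) ≫ U.hom ≫ Y.hom = _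
    rw [Category.assoc, ← reassoc_of% pullback.condition (f := φ.left) (g := U.hom), Over.w φ,
      reassoc_of% hfst, Over.w])
  have hqr : q ≫ r = fst X F ≫ φ := by
    apply Over.OverMorphism.ext
    show (iD.inv.hom.left ≫ pullback.snd φ.left U.hom) ≫ U.hom = (fst X F).left ≫ φ.left
    rw [Category.assoc, ← pullback.condition, reassoc_of% hfst]
  have hiso : IsIso iD.inv.hom.left := ⟨iD.hom.hom.left, by
      rw [← Over.comp_left, ← SchDD.comp_hom, iD.inv_hom_id]; rfl, by
      rw [← Over.comp_left, ← SchDD.comp_hom, iD.hom_inv_id]; rfl⟩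
  have hsq : IsPullback (fst X F).left q.left φ.left r.left :=
    (IsPullback.of_hasPullback φ.left U.hom).of_iso (asIso iD.inv.hom.left).symm (Iso.refl _) (Iso.refl _)
      (Iso.refl _) (by simp [← hfst]) (by simp [q]) (by simp) (by simp [r])
  have hsq' : IsPullback (fst X F) q φ r := IsPullback.of_map (Over.forget S) hqr.symm hsq
  have hinv : ∀ {W : Over S} (g : W ⟶ G) (p : W ⟶ X ⊗ F), app (a.prod b) g p ≫ q = p ≫ q := by
    intro W g p
    obtain ⟨x, f, rfl⟩ : ∃ (x : W ⟶ X) (f : W ⟶ F), p = lift x f :=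
      ⟨p ≫ fst _ _, p ≫ snd _ _, by rw [← comp_lift, lift_fst_snd, Category.comp_id]⟩
    have h : x ≫ φ = app a g x ≫ φ := (app_π hc g x).symm
    have hl : x.left ≫ φ.left = (app a g x).left ≫ φ.left := congrArg CommaMorphism.left h
    let v : Lifts (assocDD hc b).obj x.left := ⟨(lift x f).left, congrArg CommaMorphism.left (lift_fst x f)⟩
    have e : ((assocDD hc b).φ x.left (app a g x).left hl v).1 = (app (a.prod b) g (lift x f)).left := by
      show (glueLifts hc b x.left (app a g x).left hl v).1 = _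
      rw [glueLifts_val hc b W.hom _ _ hl (Over.w x)]
      refine congrArg CommaMorphism.left ?_
      show glue hc b x (app a g x) h (lift x f) = app (a.prod b) g (lift x f)
      rw [glue, show tr hc x (app a g x) h = g from app_inj hc x (app_tr hc _ _ _), lift_snd, app, app, app,
        AlgGrp.Action.lift_prod_act]
    have hc' := iD.inv.comm x.left (app a g x).left hl v (iD.inv.push v) rfl
    rw [e] at hc'
    apply Over.OverMorphism.ext
    show (app (a.prod b) g (lift x f)).left ≫ iD.inv.hom.left ≫ pullback.snd φ.left U.hom =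
      (lift x f).left ≫ iD.inv.hom.left ≫ pullback.snd φ.left U.hom
    rw [← Category.assoc, ← hc']
    refine (congrArg (· ≫ pullback.snd φ.left U.hom) (show (((toDD φ.left).obj U).φ x.left (app a g x).left hl
      (iD.inv.push v)).1 = pullback.lift (app a g x).left ((lift x f).left ≫ q.left) ?_ from ?_)).trans
      (pullback.lift_snd _ _ _)
    · show _ = ((lift x f).left ≫ q.left) ≫ r.left
      rw [← hl, Category.assoc, show q.left ≫ r.left = (fst X F).left ≫ φ.left from congrArg CommaMorphism.left hqr]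
      exact ((Category.assoc _ _ _).symm.trans (congrArg (· ≫ φ.left) (congrArg CommaMorphism.left (lift_fst x f)))).symm
    · apply pullback.hom_ext
      · exact (((toDD φ.left).obj U).φ x.left (app a g x).left hl (iD.inv.push v)).2.trans
          (pullback.lift_fst _ _ _).symm
      · simp [canonicalDD, SchDD.Hom.push, toDD, q, v]
  have hprod : ∀ {W : Over S} (g : W ⟶ G) (p : W ⟶ X ⊗ F),
      app (a.prod b) g p ≫ fst X F = app a g (p ≫ fst X F) := by
    intro W g p
    obtain ⟨x, f, rfl⟩ : ∃ (x : W ⟶ X) (f : W ⟶ F), p = lift x f :=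
      ⟨p ≫ fst _ _, p ≫ snd _ _, by rw [← comp_lift, lift_fst_snd, Category.comp_id]⟩
    rw [app, AlgGrp.Action.lift_prod_act, lift_fst, lift_fst]
  refine ⟨Q, q, r, hqr, isPullback_of_points (AlgGrp.Action.hom_ext_lift₂ fun W g p => ?_) fun {W} p' p e => ?_,
    isLocallyTrivialFor_pullback hsq hloc⟩
  · rw [lift_snd_assoc, ← Category.assoc (lift g p)]
    exact hinv g p
  · have hφ : (p ≫ fst X F) ≫ φ = (p' ≫ fst X F) ≫ φ := by
      rw [Category.assoc, Category.assoc, ← hqr, ← Category.assoc, ← Category.assoc, e]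
    refine ⟨lift (tr hc _ _ hφ) p, ⟨?_, lift_snd _ _⟩, ?_⟩
    · apply hsq'.hom_ext
      · exact (hprod _ p).trans (app_tr hc _ _ hφ)
      · exact (hinv _ p).trans e.symm
    · rintro m ⟨m1, m2⟩
      have em : m = lift (m ≫ fst G (X ⊗ F)) p := by rw [← m2, ← comp_lift, lift_fst_snd, Category.comp_id]
      rw [em]
      congr 1
      refine app_inj hc (p ≫ fst X F) ?_
      rw [app_tr]
      rw [← hprod, app, ← em, m1]

end Groth.Agent.Special44
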