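import Groth.Agent.QBal44.Basic
import Groth.Agent.PtCount44.BaseChange
import Groth.Agent.Push96.Exists
import Mathlib.AlgebraicGeometry.Sites.Fpqc

/-!
An extension of groups with only Zariski locally trivial torsors has only Zariski locally trivial torsors.
-/

set_option autoImplicit false
set_option linter.style.haveILetI false
set_option backward.isDefEq.respectTransparency false
set_option backward.isDefEq.respectTransparency.types false
universe u

open CategoryTheory CategoryTheory.Limits MonoidalCategory CartesianMonoidalCategory AlgebraicGeometry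
open Groth.Agent.AlgSt88
open scoped MonObj GrpObj

noncomputable section

namespace Groth.Agent.Special44

open QBal44 PtCount44

variable {S : Scheme.{u}} {G N Q : Over S} [GrpObj G] [GrpObj N] [GrpObj Q]

/-- Local triviality composes. -/
theorem loc_comp {K : Precoverage Scheme.{u}} [K.IsStableUnderBaseChange] [K.IsStableUnderComposition]
    {Z' Z P : Scheme.{u}} {r : Z' ⟶ Z} {p : Z ⟶ P}
    (hr : NonAbH1.IsLocallyTrivialFor K (Over.mk r)) (hp : NonAbH1.IsLocallyTrivialFor K (Over.mk p)) :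
    NonAbH1.IsLocallyTrivialFor K (Over.mk (r ≫ p)) := by
  obtain ⟨R, hR, hsec⟩ := hp
  refine loc_of_cover (r ≫ p) hR fun W g hg => ?_
  obtain ⟨s, hs⟩ := hsec g hg
  change s ≫ p = g at hs
  exact ⟨_, pullback.snd r s, pullback.fst r s, by rw [pullback.condition_assoc, hs],
    isLocallyTrivialFor_pullback (IsPullback.of_hasPullback r s) hr⟩

/-- Local triviality passes to the source of a dominating morphism. -/
theorem loc_of_factor {K : Precoverage Scheme.{u}} {Z X P : Scheme.{u}} {z : Z ⟶ P} {x : X ⟶ P} (m : Z ⟶ X)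
    (hm : m ≫ x = z) (hz : NonAbH1.IsLocallyTrivialFor K (Over.mk z)) :
    NonAbH1.IsLocallyTrivialFor K (Over.mk x) := by
  obtain ⟨R, hR, hsec⟩ := hz
  refine ⟨R, hR, fun W g hg => ?_⟩
  obtain ⟨s, hs⟩ := hsec g hg
  exact ⟨s ≫ m, ((Category.assoc _ _ _).trans (congrArg (s ≫ ·) hm)).trans hs⟩

/-- The quotient torsor and the projection to it. -/
theorem exists_quotTorsor [IsAffineHom Q.hom] (q : G ⟶ Q) [IsMonHom q] {X : Over S} {T : Scheme.{u}} (f : T ⟶ S)
    (a : AlgGrp.Action G X) (π₀ : X ⟶ Over.mk f) (hc : IsPullback a.act (snd G X) π₀ π₀)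
    (hloc : NonAbH1.IsLocallyTrivialFor Scheme.fpqcPrecoverage (Over.mk π₀.left : Over T)) :
    ∃ (P : Over S) (b : AlgGrp.Action Q P) (pY : P ⟶ Over.mk f) (π : X ⟶ P),
      IsPullback b.act (snd Q P) pY pY ∧
      NonAbH1.IsLocallyTrivialFor Scheme.fpqcPrecoverage (Over.mk pY.left : Over T) ∧ π ≫ pY = π₀ ∧
      ∀ {W : Over S} (g : W ⟶ G) (x : W ⟶ X), app a g x ≫ π = app b (g ≫ q) (x ≫ π) := by
  obtain ⟨a', key'⟩ := exists_restrictAction f π₀ a hc.w
  let P₀ : NonAbH1.TorsorSch (Red.bc f G) Scheme.fpqcPrecoverage :=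
    ⟨restrictBase f π₀, a', pseudo_restrict f π₀ a hc a' key', hloc⟩
  haveI : IsMonHom ((Over.pullback f).map q : Red.bc f G ⟶ Red.bc f Q) :=
    inferInstanceAs (IsMonHom ((Over.pullback f).map q))
  haveI : IsAffineHom (Red.bc f Q).hom := MorphismProperty.pullback_snd (P := @IsAffineHom) _ _ inferInstance
  obtain ⟨P', fm, hfm⟩ := Push96.exists_pushforward ((Over.pullback f).map q : Red.bc f G ⟶ Red.bc f Q) P₀
  obtain ⟨aP, haπ, hkey⟩ := exists_extendAction f P'.act
  refine ⟨(Over.map f).obj P'.X, aP, canTo f P'.X, (baseIso f π₀).inv ≫ (Over.map f).map fm,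
    isPullback_extend f P'.act aP haπ hkey P'.isTorsor.1, P'.isTorsor.2, ?_, fun {W} g x => ?_⟩
  · rw [Category.assoc, map_canTo]
    exact Over.OverMorphism.ext (Category.id_comp _)
  · obtain ⟨T', e, he'⟩ := exists_model f (x ≫ π₀)
    obtain ⟨y, hy⟩ := exists_dn f π₀ (e.hom ≫ x) (by rw [Category.assoc]; exact he')
    have hdn : ∀ {T'' : Over T} (z : T'' ⟶ restrictBase f π₀),
        dn f π₀ z ≫ (baseIso f π₀).inv ≫ (Over.map f).map fm = (Over.map f).map (z ≫ fm) := by
      intro T'' z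
      rw [dn, Category.assoc, Iso.hom_inv_id_assoc, Functor.map_comp]
    rw [← cancel_epi e.hom]
    have hl : e.hom ≫ app a g x = dn f π₀ (lift ((Over.mapPullbackAdj f).homEquiv T' G (e.hom ≫ g)) y ≫ a'.act) := by
      rw [key', Equiv.symm_apply_apply, hy, comp_app]
    have hr : e.hom ≫ x ≫ (baseIso f π₀).inv ≫ (Over.map f).map fm = (Over.map f).map (y ≫ fm) := by
      rw [← Category.assoc, ← hy, hdn]
    rw [← Category.assoc, hl, hdn, comp_app, hr]
    change _ = lift (e.hom ≫ g ≫ q) ((Over.map f).map (y ≫ fm)) ≫ aP.act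
    rw [hkey]
    congr 1
    rw [Category.assoc, show a'.act ≫ fm = _ from hfm, comp_lift_assoc, lift_fst_assoc, lift_snd_assoc]
    simp only [Adjunction.homEquiv_naturality_right, Category.assoc, Functor.map_comp]

/-- An extension of special groups is special. -/
theorem zariski_trivial [IsAffineHom Q.hom] (iN : N ⟶ G) [IsMonHom iN] [Mono iN] (q : G ⟶ Q) [IsMonHom q]
    (hker : AlgGrp.IsKernel iN q)
    (hq : Presieve.singleton q.left ∈ Scheme.fpqcPrecoverage Q.left)
    (hN : ∀ (X Y : Over S) (b : AlgGrp.Action N X) (ψ : X ⟶ Y), IsPullback b.act (snd N X) ψ ψ →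
      NonAbH1.IsLocallyTrivialFor Scheme.fpqcPrecoverage (Over.mk ψ.left : Over Y.left) →
      NonAbH1.IsLocallyTrivialFor Scheme.zariskiPrecoverage (Over.mk ψ.left : Over Y.left))
    (hQ : ∀ (X Y : Over S) (b : AlgGrp.Action Q X) (ψ : X ⟶ Y), IsPullback b.act (snd Q X) ψ ψ →
      NonAbH1.IsLocallyTrivialFor Scheme.fpqcPrecoverage (Over.mk ψ.left : Over Y.left) →
      NonAbH1.IsLocallyTrivialFor Scheme.zariskiPrecoverage (Over.mk ψ.left : Over Y.left))
    {X : Over S} {T : Scheme.{u}} (f : T ⟶ S) (a : AlgGrp.Action G X) (π₀ : X ⟶ Over.mk f)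
    (hc : IsPullback a.act (snd G X) π₀ π₀)
    (hloc : NonAbH1.IsLocallyTrivialFor Scheme.fpqcPrecoverage (Over.mk π₀.left : Over T)) :
    NonAbH1.IsLocallyTrivialFor Scheme.zariskiPrecoverage (Over.mk π₀.left : Over T) := by
  obtain ⟨P, b, pY, π, hcP, hlocP, hπ, heqv⟩ := exists_quotTorsor q f a π₀ hc hloc
  have hiq : iN ≫ q = toUnit N ≫ η[Q] := hker.w
  have hπN : ∀ {W : Over S} (n : W ⟶ N) (x : W ⟶ X), app (a.restrict iN) n x ≫ π = x ≫ π := by
    intro W n x
    rw [app, a.lift_restrict_act iN, heqv, Category.assoc, hiq, ← Category.assoc, toUnit_unique (n ≫ toUnit N) (toUnit W),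
      ← Hom.one_def, app, b.lift_one_act]
  have hcN : IsPullback (a.restrict iN).act (snd N X) π π := by
    refine isPullback_of_points (AlgGrp.Action.hom_ext_lift₂ fun W n x => ?_) fun {W} x' x e => ?_
    · rw [← Category.assoc, lift_snd_assoc]
      exact hπN n x
    obtain ⟨g, hg, -⟩ := existsUnique_translate hc x x' (by rw [← hπ, ← Category.assoc, ← Category.assoc, e])
    have h1 : g ≫ q = 1 := app_inj hcP (x ≫ π) (by rw [← heqv, hg, e, app, b.lift_one_act])
    obtain ⟨n, hn⟩ : ∃ n : W ⟶ N, n ≫ iN = g :=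
      ⟨hker.lift g (toUnit W) (by rw [h1, Hom.one_def]), hker.lift_fst _ _ _⟩
    refine ⟨lift n x, ⟨by rw [a.lift_restrict_act iN, hn]; exact hg, lift_snd _ _⟩, ?_⟩
    rintro m ⟨m1, m2⟩
    have em : m = lift (m ≫ fst N X) x := by rw [← m2, ← comp_lift, lift_fst_snd, Category.comp_id]
    rw [em]
    congr 1
    rw [em, a.lift_restrict_act iN] at m1
    rw [← cancel_mono iN, hn]
    exact app_inj hc x (by rw [app, m1, hg])
  have hlocN : NonAbH1.IsLocallyTrivialFor Scheme.fpqcPrecoverage (Over.mk π.left : Over P.left) := by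
    let x := pullback.fst π₀ pY
    let p := pullback.snd π₀ pY
    obtain ⟨h, hh, -⟩ := existsUnique_translate hcP (x ≫ π) p (by rw [Category.assoc, hπ, pullback.condition])
    let g := pullback.fst q h
    let z := pullback.snd q h
    have hm : app a g (z ≫ x) ≫ π = z ≫ p := by
      rw [heqv, pullback.condition, Category.assoc, ← comp_app, hh]
    refine loc_of_factor (app a g (z ≫ x)).left (congrArg (fun t => t.left) hm) ?_
    refine loc_comp ?_ (isLocallyTrivialFor_pullback
      ((IsPullback.of_hasPullback π₀ pY).map (Over.forget S)) hloc)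
    refine isLocallyTrivialFor_pullback ((IsPullback.of_hasPullback q h).map (Over.forget S)) ⟨_, hq, ?_⟩
    rintro W' w ⟨⟩
    exact ⟨𝟙 _, Category.id_comp _⟩
  have hZ := loc_comp (hN X P _ π hcN hlocN) (hQ P (Over.mk f) b pY hcP hlocP)
  exact loc_of_factor (𝟙 _) (by rw [Category.id_comp, ← hπ]; rfl) hZ

end Groth.Agent.Special44
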